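import Cfsg.Agent.Lib.Blk7.SectionCount
import Cfsg.Agent.Lib.Blocks.WeakOrth
import Cfsg.Agent.Lib.Characters.FrobSchur
import Cfsg.Agent.Lib.Characters.Values
import Cfsg.Agent.Lib.Characters.BrauerPerm
import Cfsg.Agent.Lib.CharCorr.Basic
import Cfsg.Agent.Lib.Blocks.PPart
import Mathlib.GroupTheory.PGroup
import Mathlib.GroupTheory.Transfer

/-!
# Principal blocks with three characters

The `p`-singular values of the two nontrivial characters are integers `a`, `b`; counting square
roots gives `|a| = |b|`, the orthogonality with the degrees then gives `|a| = 1`, so `|P|` divides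
`3`.
-/

set_option autoImplicit false
set_option linter.style.haveILetI false
set_option linter.unusedSectionVars false

noncomputable section

namespace CfsgLib.ThreeChars

open Cfsg CfsgLib.Characters CfsgLib.Blocks CfsgLib.FrobSchur CfsgLib.Blk7
open scoped ComplexConjugate Classical

universe u

/-- A `p`-group with at most two classes of nontrivial elements. -/
theorem card_le_three {p : ℕ} [hp : Fact p.Prime] {P : Type u} [Group P] [Finite P]
    (hP : IsPGroup p P)
    (h : ∀ a b c : P, a ≠ 1 → b ≠ 1 → c ≠ 1 → IsConj a b ∨ IsConj a c ∨ IsConj b c) :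
    Nat.card P ≤ 3 := by
  haveI : Fintype P := Fintype.ofFinite P
  by_contra hlt
  haveI : Nontrivial P := Finite.one_lt_card_iff_nontrivial.1 (by omega)
  haveI := hP.center_nontrivial
  have hcen : ∀ a b : P, a ∈ Subgroup.center P → IsConj a b → a = b := by
    intro a b ha hab
    obtain ⟨d, hd⟩ := isConj_iff.1 hab
    rw [← hd, Subgroup.mem_center_iff.1 ha d, mul_inv_cancel_right]
  by_cases hfull : Subgroup.center P = ⊤
  · have hall : ∀ a : P, a ∈ Subgroup.center P := fun a => hfull ▸ Subgroup.mem_top a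
    have h3 : 3 ≤ (Finset.univ.erase (1 : P)).card := by
      rw [Finset.card_erase_of_mem (Finset.mem_univ _), Finset.card_univ, ← Nat.card_eq_fintype_card]
      omega
    obtain ⟨a, b, c, ha, hb, hc, hab, hac, hbc⟩ := Finset.two_lt_card_iff.1 h3
    rcases h a b c (Finset.ne_of_mem_erase ha) (Finset.ne_of_mem_erase hb)
      (Finset.ne_of_mem_erase hc) with e | e | e
    · exact hab (hcen _ _ (hall a) e)
    · exact hac (hcen _ _ (hall a) e)
    · exact hbc (hcen _ _ (hall b) e)
  · obtain ⟨u, hu⟩ : ∃ u : P, u ∉ Subgroup.center P := by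
      by_contra hall
      simp only [not_exists, not_not] at hall
      exact hfull ((Subgroup.eq_top_iff' _).2 hall)
    obtain ⟨⟨z, hz⟩, hz1⟩ := exists_ne (1 : Subgroup.center P)
    have hz1' : z ≠ 1 := fun e => hz1 (Subtype.ext e)
    have hu1 : u ≠ 1 := fun e => hu (e ▸ one_mem _)
    have hne : ∀ a b : P, a ∈ Subgroup.center P → b ∉ Subgroup.center P → ¬ IsConj a b :=
      fun a b ha hb e => hb (hcen a b ha e ▸ ha)
    have hzu := hne z u hz hu
    have hclass : ∀ v : P, v ≠ 1 → v ≠ z → IsConj u v := by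
      intro v hv hvz
      rcases h z u v hz1' hu1 hv with e | e | e
      · exact absurd e hzu
      · exact absurd (hcen z v hz e).symm hvz
      · exact e
    have hset : (Finset.univ.filter fun v : P => IsConj u v) = Finset.univ \ {1, z} := by
      ext v
      simp only [Finset.mem_filter, Finset.mem_univ, true_and, Finset.mem_sdiff, Finset.mem_insert,
        Finset.mem_singleton, not_or]
      refine ⟨fun e => ⟨fun e1 => ?_, fun e1 => ?_⟩, fun e => hclass v e.1 e.2⟩
      · subst e1
        exact hne 1 u (one_mem _) hu e.symm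
      · subst e1
        exact hzu e.symm
    have hcount : Nat.card {v : P // IsConj u v} = Nat.card P - 2 := by
      rw [Nat.card_eq_fintype_card, Fintype.card_subtype, hset,
        Finset.card_sdiff_of_subset (Finset.subset_univ _), Finset.card_univ,
        Finset.card_pair (Ne.symm hz1'), Nat.card_eq_fintype_card]
    have hdvd : Nat.card P - 2 ∣ Nat.card P :=
      hcount ▸ Dvd.intro _ (card_isConj_mul_card_centralizer u)
    have h2 : Nat.card P - 2 ∣ 2 := by
      have := Nat.dvd_sub hdvd (dvd_refl (Nat.card P - 2))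
      rwa [show Nat.card P - (Nat.card P - 2) = 2 by omega] at this
    have h4 := Nat.le_of_dvd two_pos h2
    have hP4 : Nat.card P = 4 := by omega
    obtain ⟨k, hk⟩ := IsPGroup.iff_card.1 hP
    have hp2 : p = 2 := by
      have h5 : p ∣ 4 := by
        rw [← hP4, hk]
        exact dvd_pow_self p (by rintro rfl; rw [pow_zero] at hk; omega)
      have h6 : p ∣ 2 ^ 2 := h5
      exact (Nat.prime_dvd_prime_iff_eq hp.out Nat.prime_two).1 (hp.out.dvd_of_dvd_pow h6)
    subst hp2
    haveI : Fact (Nat.Prime 2) := ⟨Nat.prime_two⟩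
    refine hfull ((Subgroup.eq_top_iff' _).2 fun a => Subgroup.mem_center_iff.2 fun b => ?_)
    haveI := IsPGroup.isMulCommutative_of_card_eq_prime_sq (p := 2) (G := P) (by rw [hP4]; rfl)
    exact mul_comm' b a

variable {G : Type u} [Group G] [Fintype G] {p : ℕ} [hp : Fact p.Prime] {M : Ideal AlgInt}

local notation "B₀" => principalBlock M G

/-- Characters of the principal block are constant on a normal subgroup of order prime to `p`. -/
theorem apply_of_normal (hM : IsPModular p M) {N : Subgroup G} [N.Normal]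
    (hN : ¬ p ∣ Nat.card N) {χ : IrrCharacter G} (hχ : χ ∈ B₀) {v : G} (hv : v ∈ N) :
    (χ : G → ℂ) v = (χ : G → ℂ) 1 := by
  have hle : N ≤ Subgroup.centralizer ({(1 : G)} : Set G) := fun w _ =>
    Subgroup.mem_centralizer_singleton_iff.2 (by simp)
  have h := principal_apply_mul hM (u := (1 : G)) ⟨0, by rw [pow_zero, orderOf_one]⟩
    (N := N.subgroupOf (Subgroup.centralizer ({(1 : G)} : Set G)))
    (by rw [Nat.card_congr (Subgroup.subgroupOfEquivOfLe hle).toEquiv]; exact hN)
    (v := ⟨v, hle hv⟩) hv hχ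
  simpa using h

theorem mem_of_regular_sum (hM : IsPModular p M) {χ : IrrCharacter G}
    (h : ∑ g ∈ Finset.univ.filter (fun g : G => ¬ p ∣ orderOf g), (χ : G → ℂ) g ≠ 0) : χ ∈ B₀ := by
  by_contra hχ
  refine h ?_
  have h0 := sum_regular_eq_zero_of_not_sameBlock hM (χ := χ) (ψ := principalIrr G) fun hs => hχ ?_
  · simpa using h0
  · show SameBlock M (fun _ : G => (1 : ℂ)) (χ : G → ℂ)
    exact SameBlock.symm hM hs

theorem principal_mem (hM : IsPModular p M) : principalIrr G ∈ B₀ := by
  refine mem_of_regular_sum hM ?_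
  simp only [principalIrr_apply, Finset.sum_const, nsmul_one]
  exact Nat.cast_ne_zero.2
    (Finset.card_ne_zero.2 ⟨1, by simp [orderOf_one, hp.out.not_dvd_one]⟩)

/-- Orthogonality of different sections, in the principal block. -/
theorem sum_mul_inv_eq_zero (hM : IsPModular p M) {g h x z : G} (hg : IsPPart p g x)
    (hh : IsPPart p h z) (hne : ¬ IsConj x z) :
    ∑ χ : {χ : IrrCharacter G // χ ∈ B₀}, (χ.1 : G → ℂ) g * (χ.1 : G → ℂ) h⁻¹ = 0 := by
  rw [← sum_block_eq_zero_of_not_isConj hM (isPBlock_principalBlock M) hg hh hne]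
  exact (Finset.sum_subtype (Finset.univ.filter (· ∈ B₀))
    (p := fun χ => χ ∈ B₀) (fun χ => by simp) fun χ : IrrCharacter G =>
      (χ : G → ℂ) g * (χ : G → ℂ) h⁻¹).symm

/-- The map whose range is the span of the regular parts. -/
def regMap (M : Ideal AlgInt) (p : ℕ) (G : Type u) [Group G] [Fintype G] :
    ({χ : IrrCharacter G // χ ∈ principalBlock M G} → ℂ) →ₗ[ℂ] (G → ℂ) :=
  Fintype.linearCombination ℂ fun χ : {χ : IrrCharacter G // χ ∈ principalBlock M G} =>
    pRegularPart p (χ.1 : G → ℂ)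

theorem finrank_range_regMap :
    Module.finrank ℂ (LinearMap.range (regMap M p G)) = blockRank p B₀ := by
  have e : Set.range (fun χ : {χ : IrrCharacter G // χ ∈ B₀} => pRegularPart p (χ.1 : G → ℂ)) =
      (fun χ : IrrCharacter G => pRegularPart p (χ : G → ℂ)) '' B₀ := by
    rw [Set.image_eq_range]
  rw [regMap, Fintype.range_linearCombination, blockRank, e]

theorem rank_add_ker :
    blockRank p B₀ + Module.finrank ℂ (LinearMap.ker (regMap M p G)) = Nat.card B₀ := by
  rw [← finrank_range_regMap, LinearMap.finrank_range_add_finrank_ker, Module.finrank_pi,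
    Nat.card_eq_fintype_card]

/-- The values at a `p`-singular element. -/
def col (M : Ideal AlgInt) (g : G) (χ : {χ : IrrCharacter G // χ ∈ principalBlock M G}) : ℂ :=
  (χ.1 : G → ℂ) g

theorem col_mem_ker (hM : IsPModular p M) {g : G} (hg : p ∣ orderOf g) :
    col M g ∈ LinearMap.ker (regMap M p G) := by
  rw [LinearMap.mem_ker]
  funext h
  simp only [regMap, Fintype.linearCombination_apply, Finset.sum_apply, Pi.smul_apply,
    smul_eq_mul, col, Pi.zero_apply, pRegularPart_apply]
  by_cases hh : IsPRegular p h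
  · simp only [if_pos hh]
    obtain ⟨x, hx⟩ := exists_isPPart hM.1 g⁻¹
    have hx1 : x ≠ 1 := by
      rintro rfl
      obtain ⟨y, hy, -, -, hyp⟩ := hx
      rw [one_mul] at hy
      rw [hy, orderOf_inv] at hyp
      exact hyp hg
    have hpart : IsPPart p h 1 :=
      ⟨h, one_mul h, Commute.one_left h, ⟨0, by rw [pow_zero, orderOf_one]⟩, hh⟩
    have h0 := sum_mul_inv_eq_zero hM hpart hx fun e => hx1 (isConj_one_right.1 e)
    rw [inv_inv] at h0
    rw [← h0]
    exact Finset.sum_congr rfl fun χ _ => mul_comm _ _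
  · simp [if_neg hh]

theorem col_one (hM : IsPModular p M) (g : G) :
    col M g ⟨principalIrr G, principal_mem hM⟩ = 1 := by
  simp [col]

theorem col_ne_zero (hM : IsPModular p M) (g : G) : col M g ≠ 0 := fun e => by
  have := congrFun e ⟨principalIrr G, principal_mem hM⟩
  rw [col_one hM] at this
  exact one_ne_zero this

theorem one_le_rank (hM : IsPModular p M) : 1 ≤ blockRank p B₀ := by
  rw [← finrank_range_regMap, Submodule.one_le_finrank_iff]
  intro e
  have hmem : regMap M p G (Pi.single ⟨principalIrr G, principal_mem hM⟩ 1) ∈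
      LinearMap.range (regMap M p G) := LinearMap.mem_range_self _ _
  rw [e, Submodule.mem_bot] at hmem
  have := congrFun hmem 1
  rw [regMap, Fintype.linearCombination_apply_single, one_smul, pRegularPart_apply,
    if_pos (show IsPRegular p (1 : G) by rw [IsPRegular, orderOf_one]; exact hp.out.not_dvd_one),
    principalIrr_apply, Pi.zero_apply] at this
  exact one_ne_zero this

/-- If all characters of the principal block are constant on regular elements, the rank is one. -/
theorem rank_le_one (h : ∀ χ ∈ B₀, ∀ g : G, ¬ p ∣ orderOf g → (χ : G → ℂ) g = (χ : G → ℂ) 1) :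
    blockRank p B₀ ≤ 1 := by
  have hle : Submodule.span ℂ ((fun χ : IrrCharacter G => pRegularPart p (χ : G → ℂ)) '' B₀) ≤
      Submodule.span ℂ {pRegularPart p (fun _ : G => (1 : ℂ))} := by
    refine Submodule.span_le.2 ?_
    rintro _ ⟨χ, hχ, rfl⟩
    refine Submodule.mem_span_singleton.2 ⟨(χ : G → ℂ) 1, funext fun g => ?_⟩
    simp only [Pi.smul_apply, smul_eq_mul, pRegularPart_apply]
    split_ifs with hg
    · rw [mul_one, h χ hχ g hg]
    · rw [mul_zero]
  refine (Submodule.finrank_mono hle).trans ?_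
  refine (finrank_span_le_card _).trans ?_
  simp

/-- A normal `p`-complement forces rank one. -/
theorem rank_of_complement (hM : IsPModular p M) {N : Subgroup G} [N.Normal]
    (hN : ¬ p ∣ Nat.card N) (hreg : ∀ g : G, ¬ p ∣ orderOf g → g ∈ N) : blockRank p B₀ ≤ 1 :=
  rank_le_one fun _ hχ g hg => apply_of_normal hM hN hχ (hreg g hg)

/-- Rank one gives `|P| = 3`. -/
theorem of_rank_one (hM : IsPModular p M) (hk : Nat.card B₀ = 3) (hl : blockRank p B₀ = 1)
    (P : Sylow p G) : Nat.card P = 3 := by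
  set o : {χ : IrrCharacter G // χ ∈ B₀} := ⟨principalIrr G, principal_mem hM⟩ with ho
  have hdeg : ∀ χ : {χ : IrrCharacter G // χ ∈ B₀}, ∀ g : G, ¬ p ∣ orderOf g →
      (χ.1 : G → ℂ) g = (χ.1 : G → ℂ) 1 := by
    intro χ g hg
    have hspan : Module.finrank ℂ (LinearMap.range (regMap M p G)) = 1 := by
      rw [finrank_range_regMap, hl]
    set v : LinearMap.range (regMap M p G) := ⟨_, LinearMap.mem_range_self _ (Pi.single o 1)⟩
    have hv : v ≠ 0 := fun e => by
      have := congrFun (congrArg Subtype.val e) 1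
      simp only [v, regMap, Fintype.linearCombination_apply_single, one_smul, pRegularPart_apply,
        ho, principalIrr_apply, ZeroMemClass.coe_zero, Pi.zero_apply] at this
      rw [if_pos (show IsPRegular p (1 : G) by
        rw [IsPRegular, orderOf_one]; exact hp.out.not_dvd_one)] at this
      exact one_ne_zero this
    obtain ⟨c, hc⟩ := (finrank_eq_one_iff_of_nonzero' v hv).1 hspan
      ⟨_, LinearMap.mem_range_self _ (Pi.single χ 1)⟩
    have hc' : c • (v : G → ℂ) = (regMap M p G) (Pi.single χ 1) := congrArg Subtype.val hc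
    simp only [v, regMap, Fintype.linearCombination_apply_single, one_smul] at hc'
    have hval : ∀ g : G, ¬ p ∣ orderOf g → (χ.1 : G → ℂ) g = c := by
      intro g hg
      have := congrFun hc' g
      simp only [Pi.smul_apply, smul_eq_mul, pRegularPart_apply,
        if_pos (show IsPRegular p g from hg), ho, principalIrr_apply, mul_one] at this
      exact this.symm
    rw [hval g hg, hval 1 (by rw [orderOf_one]; exact hp.out.not_dvd_one)]
  -- the common kernel
  have hrep : ∀ χ : {χ : IrrCharacter G // χ ∈ B₀}, ∃ K : Subgroup G, K.Normal ∧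
      ∀ g : G, g ∈ K ↔ (χ.1 : G → ℂ) g = (χ.1 : G → ℂ) 1 := by
    intro χ
    obtain ⟨d, ρ, hρ⟩ := irr_isCharacter χ.1
    refine ⟨MonoidHom.ker ρ, MonoidHom.normal_ker ρ, fun g => ?_⟩
    rw [MonoidHom.mem_ker, ← hρ, Representation.char_one, char_eq_degree_iff]
    exact Iff.rfl
  choose K hKn hK using hrep
  set T := ⨅ χ, K χ with hT
  haveI : T.Normal := Subgroup.normal_iInf_normal hKn
  have hmemT : ∀ g : G, g ∈ T ↔ ¬ p ∣ orderOf g := by
    intro g
    rw [hT, Subgroup.mem_iInf]
    refine ⟨fun hg hd => ?_, fun hg χ => (hK χ g).2 (hdeg χ g hg)⟩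
    obtain ⟨x, hx⟩ := exists_isPPart hM.1 g
    have hx1 : x ≠ 1 := by
      rintro rfl
      obtain ⟨y, hy, -, -, hyp⟩ := hx
      rw [one_mul] at hy
      exact hyp (hy ▸ hd)
    have h0 := sum_mul_inv_eq_zero hM hx (z := 1) (h := 1)
      ⟨1, one_mul 1, Commute.one_left _, ⟨0, by rw [pow_zero, orderOf_one]⟩,
        by rw [orderOf_one]; exact hp.out.not_dvd_one⟩ fun e => hx1 (isConj_one_left.1 e)
    rw [inv_one, Finset.sum_congr rfl fun χ _ => show (χ.1 : G → ℂ) g * (χ.1 : G → ℂ) 1 =
      ((charDegree (χ.1 : G → ℂ) * charDegree (χ.1 : G → ℂ) : ℕ) : ℂ) by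
        rw [(hK χ g).1 (hg χ), Nat.cast_mul, CharCorr.irr_one_eq_charDegree],
      ← Nat.cast_sum, Nat.cast_eq_zero] at h0
    have := Finset.sum_eq_zero_iff.1 h0 o (Finset.mem_univ _)
    simp [ho, charDegree, principalIrr] at this
  have hTp : ¬ p ∣ Nat.card T := fun hd => by
    obtain ⟨g, hg⟩ := exists_prime_orderOf_dvd_card' p hd
    exact (hmemT g).1 g.2 (by rw [Subgroup.orderOf_coe, hg])
  have hq : IsPGroup p (G ⧸ T) := by
    intro q
    obtain ⟨g, rfl⟩ := QuotientGroup.mk_surjective q
    obtain ⟨x, hx⟩ := exists_isPPart hM.1 g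
    obtain ⟨y, hy, hc, ⟨k, hk⟩, hyp⟩ := hx
    refine ⟨k, ?_⟩
    rw [← QuotientGroup.mk_pow, QuotientGroup.eq_one_iff, ← hy, hc.mul_pow,
      show x ^ p ^ k = 1 by rw [← hk, pow_orderOf_eq_one], one_mul]
    exact Subgroup.pow_mem _ ((hmemT y).2 hyp) _
  obtain ⟨a, ha⟩ := IsPGroup.iff_card.1 hq
  have hPc : Nat.card (G ⧸ T) = Nat.card P := by
    rw [P.card_eq_multiplicity, Subgroup.card_eq_card_quotient_mul_card_subgroup T, ha,
      Nat.factorization_mul (pow_ne_zero _ hp.out.ne_zero) Nat.card_pos.ne', Finsupp.add_apply,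
      Nat.factorization_eq_zero_of_not_dvd hTp, add_zero, hp.out.factorization_pow,
      Finsupp.single_eq_same]
  set π : (P : Subgroup G) →* G ⧸ T := (QuotientGroup.mk' T).comp (P : Subgroup G).subtype with hπ
  have hinj : Function.Injective π := by
    refine (injective_iff_map_eq_one π).2 fun x hx => ?_
    have hxT : (x : G) ∈ T := (QuotientGroup.eq_one_iff _).1 hx
    obtain ⟨k, hk⟩ := P.2 x
    obtain ⟨i, -, hi⟩ := (Nat.dvd_prime_pow hp.out).1 (orderOf_dvd_of_pow_eq_one hk)
    rw [← Subgroup.orderOf_coe] at hi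
    by_cases hi0 : i = 0
    · rw [hi0, pow_zero, orderOf_eq_one_iff] at hi
      exact Subtype.ext hi
    · exact absurd (hi ▸ dvd_pow_self p hi0) ((hmemT _).1 hxT)
  have hbij : Function.Bijective π :=
    (Nat.bijective_iff_injective_and_card π).2 ⟨hinj, hPc.symm⟩
  -- at most two classes of nontrivial elements
  have hker : Module.finrank ℂ (LinearMap.ker (regMap M p G)) = 2 := by
    have := rank_add_ker (M := M) (p := p) (G := G)
    omega
  have hsing : ∀ x : (P : Subgroup G), x ≠ 1 → p ∣ orderOf (x : G) := by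
    intro x hx
    obtain ⟨k, hk⟩ := P.2 x
    obtain ⟨i, -, hi⟩ := (Nat.dvd_prime_pow hp.out).1 (orderOf_dvd_of_pow_eq_one hk)
    rw [Subgroup.orderOf_coe, hi]
    refine dvd_pow_self p fun e => hx ?_
    rw [e, pow_zero, orderOf_eq_one_iff] at hi
    exact hi
  have hclasses : ∀ x y z : (P : Subgroup G), x ≠ 1 → y ≠ 1 → z ≠ 1 →
      IsConj x y ∨ IsConj x z ∨ IsConj y z := by
    intro x y z hx hy hz
    have hlift : ∀ {u v : (P : Subgroup G)}, IsConj (u : G) (v : G) → IsConj u v := by
      intro u v huv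
      obtain ⟨g, hg⟩ := isConj_iff.1 huv
      obtain ⟨w, hw⟩ := hbij.2 (QuotientGroup.mk' T g)
      refine isConj_iff.2 ⟨w, hinj ?_⟩
      rw [map_mul, map_mul, map_inv, hw]
      show _ = QuotientGroup.mk' T (v : G)
      rw [← hg, map_mul, map_mul, map_inv]
      rfl
    by_contra hno
    simp only [not_or] at hno
    let f : Fin 3 → (P : Subgroup G) := ![x, y, z]
    have hf : ∀ i, p ∣ orderOf (f i : G) := fun i => by
      fin_cases i
      · exact hsing x hx
      · exact hsing y hy
      · exact hsing z hz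
    have hne : ∀ i j, i ≠ j → ¬ IsConj (f i : G) (f j : G) := by
      intro i j hij e
      have := hlift e
      fin_cases i <;> fin_cases j <;>
        first
        | exact absurd rfl hij
        | exact hno.1 this
        | exact hno.2.1 this
        | exact hno.2.2 this
        | exact hno.1 this.symm
        | exact hno.2.1 this.symm
        | exact hno.2.2 this.symm
    have hpart : ∀ i, IsPPart p (f i : G) (f i : G) := fun i => by
      obtain ⟨k, hk⟩ := P.2 (f i)
      obtain ⟨j, -, hj⟩ := (Nat.dvd_prime_pow hp.out).1 (orderOf_dvd_of_pow_eq_one hk)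
      exact ⟨1, mul_one _, Commute.one_right _, ⟨j, by rw [Subgroup.orderOf_coe, hj]⟩,
        by rw [orderOf_one]; exact hp.out.not_dvd_one⟩
    let w : Fin 3 → LinearMap.ker (regMap M p G) := fun i => ⟨col M (f i : G), col_mem_ker hM (hf i)⟩
    have hli : LinearIndependent ℂ w := by
      rw [Fintype.linearIndependent_iff]
      intro c hc j
      have hc' := congrArg Subtype.val hc
      simp only [Submodule.coe_sum, SetLike.val_smul, w, ZeroMemClass.coe_zero] at hc'
      have h1 : ∑ χ : {χ : IrrCharacter G // χ ∈ B₀},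
          (∑ i, c i * col M (f i : G) χ) * conj (col M (f j : G) χ) = 0 := by
        refine Finset.sum_eq_zero fun χ _ => ?_
        have := congrFun hc' χ
        simp only [Finset.sum_apply, Pi.smul_apply, smul_eq_mul, Pi.zero_apply] at this
        rw [this, zero_mul]
      simp only [Finset.sum_mul] at h1
      rw [Finset.sum_comm, Finset.sum_eq_single j (fun i _ hij => by
        simp only [col, mul_assoc, ← Finset.mul_sum, ← irr_apply_inv]
        rw [sum_mul_inv_eq_zero hM (hpart i) (hpart j) (hne i j hij), mul_zero]) (by simp)] at h1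
      simp only [mul_assoc, ← Finset.mul_sum] at h1
      refine (mul_eq_zero.1 h1).resolve_right fun h2 => ?_
      simp only [Complex.mul_conj, ← Complex.ofReal_sum, Complex.ofReal_eq_zero] at h2
      have := (Finset.sum_eq_zero_iff_of_nonneg fun χ _ => Complex.normSq_nonneg _).1 h2 o
        (Finset.mem_univ _)
      rw [ho, col_one hM, map_one] at this
      exact one_ne_zero this
    have := hli.fintype_card_le_finrank
    rw [hker, Fintype.card_fin] at this
    omega
  have hle3 := card_le_three P.2 hclasses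
  -- not at most two
  rcases (show Nat.card P ≤ 2 ∨ Nat.card P = 3 by omega) with h2 | h3
  · exfalso
    let Φ : (G ⧸ T → ℂ) →ₗ[ℂ] (G → ℂ) := LinearMap.funLeft ℂ ℂ (QuotientGroup.mk' T)
    have hrange : ∀ χ : {χ : IrrCharacter G // χ ∈ B₀},
        (χ.1 : G → ℂ) ∈ LinearMap.range Φ := by
      intro χ
      refine ⟨fun q => (χ.1 : G → ℂ) q.out, funext fun g => ?_⟩
      show (χ.1 : G → ℂ) (QuotientGroup.mk' T g).out = (χ.1 : G → ℂ) g
      obtain ⟨t, ht⟩ := QuotientGroup.mk_out_eq_mul T g
      rw [show (QuotientGroup.mk' T g).out = g * t from ht]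
      have htK : (t : G) ∈ K χ := Subgroup.mem_iInf.1 t.2 χ
      obtain ⟨d, ρ, hρ⟩ := irr_isCharacter χ.1
      have h1 := (hK χ _).1 htK
      rw [← hρ, Representation.char_one, char_eq_degree_iff] at h1
      rw [← hρ]
      show LinearMap.trace ℂ _ (ρ (g * t)) = LinearMap.trace ℂ _ (ρ g)
      rw [map_mul, h1]
      rfl
    have hliB : LinearIndependent ℂ
        (fun χ : {χ : IrrCharacter G // χ ∈ B₀} => (⟨(χ.1 : G → ℂ), hrange χ⟩ : LinearMap.range Φ)) :=
      LinearIndependent.of_comp (LinearMap.range Φ).subtype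
        (irr_linearIndependent.comp _ Subtype.val_injective)
    have h5 := hliB.fintype_card_le_finrank
    haveI : Fintype (G ⧸ T) := Fintype.ofFinite _
    have h6 := LinearMap.finrank_range_le Φ
    rw [Module.finrank_pi, ← Nat.card_eq_fintype_card, hPc] at h6
    rw [← Nat.card_eq_fintype_card] at h5
    change Nat.card B₀ ≤ _ at h5
    omega
  · exact h3

/-- Squares of `p`-singular elements, `p` odd. -/
theorem sum_indicator (hM : IsPModular p M) (hodd : p ≠ 2)
    (hb : ∀ χ : IrrCharacter G, χ ∉ B₀ → ∑ g ∈ Finset.univ.filter (fun g : G => p ∣ orderOf g),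
      (χ : G → ℂ) g = 0) :
    ∑ χ : {χ : IrrCharacter G // χ ∈ B₀}, fsInd (χ.1 : G → ℂ) *
      ∑ g ∈ Finset.univ.filter (fun g : G => p ∣ orderOf g), (χ.1 : G → ℂ) g =
      ((Finset.univ.filter (fun g : G => p ∣ orderOf g)).card : ℂ) := by
  set S := Finset.univ.filter (fun g : G => p ∣ orderOf g) with hS
  set r : G → ℂ := fun g => ((Finset.univ.filter fun s : G => s * s = g).card : ℂ) with hr
  have hcl : IsClassFunction G r := by
    intro a b
    simp only [hr, Nat.cast_inj]
    refine Finset.card_bij' (fun s _ => b⁻¹ * s * b) (fun s _ => b * s * b⁻¹) ?_ ?_ ?_ ?_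
    · intro s hs
      rw [Finset.mem_filter] at hs ⊢
      refine ⟨Finset.mem_univ _, ?_⟩
      rw [show b⁻¹ * s * b * (b⁻¹ * s * b) = b⁻¹ * (s * s) * b by group, hs.2]
      group
    · intro s hs
      rw [Finset.mem_filter] at hs ⊢
      refine ⟨Finset.mem_univ _, ?_⟩
      rw [show b * s * b⁻¹ * (b * s * b⁻¹) = b * (s * s) * b⁻¹ by group, hs.2]
    · intro s _; group
    · intro s _; group
  have hin : ∀ χ : IrrCharacter G, classInner r (χ : G → ℂ) = fsInd (χ : G → ℂ) := by
    intro χ
    have h1 : conj (fsInd (χ : G → ℂ)) = fsInd (χ : G → ℂ) := by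
      rcases fsInd_cases χ.2 with ⟨-, e | e⟩ | ⟨-, e⟩ <;> simp [e]
    rw [← h1, fsInd_eq_sum, map_mul, map_inv₀, Complex.conj_natCast, map_sum, classInner]
    congr 1
    rw [← Finset.sum_fiberwise Finset.univ (fun s : G => s * s)
      (fun s => conj ((χ : G → ℂ) (s * s)))]
    refine Finset.sum_congr rfl fun g _ => ?_
    rw [Finset.sum_congr rfl (fun s hs => by rw [(Finset.mem_filter.1 hs).2]), Finset.sum_const,
      nsmul_eq_mul]
  have hcount : ∑ g ∈ S, r g = (S.card : ℂ) := by
    simp only [hr]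
    rw [← Nat.cast_sum, Nat.cast_inj]
    have h2 : ∀ s : G, p ∣ orderOf (s * s) ↔ p ∣ orderOf s := by
      intro s
      rw [← sq, orderOf_pow' s two_ne_zero]
      refine ⟨fun hd => hd.trans (Nat.div_dvd_of_dvd (Nat.gcd_dvd_left _ _)), fun hd => ?_⟩
      have hco : Nat.Coprime p (Nat.gcd (orderOf s) 2) :=
        Nat.Coprime.coprime_dvd_right (Nat.gcd_dvd_right _ _)
          ((Nat.coprime_primes hp.out Nat.prime_two).2 hodd)
      refine hco.dvd_of_dvd_mul_right ?_
      rwa [Nat.div_mul_cancel (Nat.gcd_dvd_left _ _)]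
    rw [← Finset.card_biUnion]
    · congr 1
      ext s
      simp only [Finset.mem_biUnion, Finset.mem_filter, Finset.mem_univ, true_and, hS]
      exact ⟨fun ⟨g, hg, e⟩ => (h2 s).1 (by rw [e]; exact hg), fun hs => ⟨s * s, (h2 s).2 hs, rfl⟩⟩
    · intro a _ b _ hab
      rw [Function.onFun, Finset.disjoint_left]
      intro s hs hs'
      rw [Finset.mem_filter] at hs hs'
      exact hab (hs.2.symm.trans hs'.2)
  rw [← hcount]
  conv_rhs => rw [classFunction_eq_sum hcl]
  simp only [Finset.sum_apply, Pi.smul_apply, smul_eq_mul, hin]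
  rw [Finset.sum_comm]
  simp only [← Finset.mul_sum]
  rw [← Finset.sum_subtype (Finset.univ.filter (· ∈ B₀)) (p := fun χ => χ ∈ B₀)
    (fun χ => by simp) fun χ : IrrCharacter G => fsInd (χ : G → ℂ) * ∑ g ∈ S, (χ : G → ℂ) g]
  refine Finset.sum_subset (Finset.subset_univ _) fun χ _ hχ => ?_
  rw [hb χ fun e => hχ (Finset.mem_filter.2 ⟨Finset.mem_univ _, e⟩), mul_zero]

/-- The integer data of rank two. -/
theorem arith {n a b d₁ d₂ : ℤ} (hrel : 1 + a * d₁ + b * d₂ = 0) (ha : n ∣ d₁ - a)
    (hb : n ∣ d₂ - b) (habs : a = b ∨ a = -b) : n ∣ 3 := by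
  have h1 : n ∣ 1 + a * a + b * b := by
    have : 1 + a * a + b * b = -(a * (d₁ - a) + b * (d₂ - b)) := by linear_combination hrel
    rw [this]
    exact (dvd_add (dvd_mul_of_dvd_right ha _) (dvd_mul_of_dvd_right hb _)).neg_right
  have h2 : a * a = 1 := by
    have hu : IsUnit a := by
      rcases habs with e | e
      · exact IsUnit.of_mul_eq_one (-(d₁ + d₂)) (by rw [e] at hrel ⊢; linear_combination -hrel)
      · exact IsUnit.of_mul_eq_one (-(d₁ - d₂)) (by rw [e] at hrel ⊢; linear_combination -hrel)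
    rcases Int.isUnit_iff.1 hu with e | e <;> rw [e] <;> norm_num
  have h3 : b * b = 1 := by
    rcases habs with e | e <;> rw [e] at h2 <;> linear_combination h2
  rw [h2, h3] at h1
  exact h1

/-- The main theorem. -/
theorem card_sylow_eq_three (hM : IsPModular p M) (hk : Nat.card B₀ = 3) (P : Sylow p G) :
    Nat.card P = 3 := by
  have hadd := rank_add_ker (M := M) (p := p) (G := G)
  rw [hk] at hadd
  have hl1 := one_le_rank (G := G) hM
  by_cases hl : blockRank p B₀ = 1
  · exact of_rank_one hM hk hl P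
  have hdvd : p ∣ Nat.card G := by
    by_contra hp'
    have := rank_of_complement (G := G) hM (N := ⊤) (by rwa [Subgroup.card_top])
      fun g _ => Subgroup.mem_top g
    omega
  obtain ⟨x, hx⟩ := exists_prime_orderOf_dvd_card' p hdvd
  have hxs : p ∣ orderOf x := by rw [hx]
  by_cases hl3 : blockRank p B₀ = 3
  · exfalso
    have h0 : Module.finrank ℂ (LinearMap.ker (regMap M p G)) = 0 := by omega
    have := col_mem_ker hM hxs
    rw [Submodule.finrank_eq_zero.1 h0, Submodule.mem_bot] at this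
    exact col_ne_zero hM x this
  have hker : Module.finrank ℂ (LinearMap.ker (regMap M p G)) = 1 := by omega
  -- constant on singular elements
  have hconst : ∀ g : G, p ∣ orderOf g → col M g = col M x := by
    intro g hg
    obtain ⟨c, hc⟩ := (finrank_eq_one_iff_of_nonzero' (⟨col M x, col_mem_ker hM hxs⟩ :
      LinearMap.ker (regMap M p G)) fun e => col_ne_zero hM x (congrArg Subtype.val e)).1 hker
      ⟨col M g, col_mem_ker hM hg⟩
    have hc' : c • col M x = col M g := congrArg Subtype.val hc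
    have h1 := congrFun hc' ⟨principalIrr G, principal_mem hM⟩
    rw [Pi.smul_apply, col_one hM, col_one hM, smul_eq_mul, mul_one] at h1
    rw [h1, one_smul] at hc'
    exact hc'.symm
  have hP2 : 2 ≤ Nat.card P := by
    refine hp.out.two_le.trans (Nat.le_of_dvd Nat.card_pos ?_)
    exact P.dvd_card_of_dvd_card hdvd
  -- integrality and congruence
  have hint : ∀ χ : {χ : IrrCharacter G // χ ∈ B₀}, ∃ a : ℤ, col M x χ = (a : ℂ) ∧
      (Nat.card P : ℤ) ∣ (charDegree (χ.1 : G → ℂ) : ℤ) - a := by
    intro χ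
    obtain ⟨m, hm⟩ : ∃ m : ℕ, ∑ y : (P : Subgroup G), (χ.1 : G → ℂ) y =
        (Nat.card P : ℂ) * m := by
      have hres : IsCharacter (P : Subgroup G) fun y : (P : Subgroup G) => (χ.1 : G → ℂ) y := by
        obtain ⟨d, ρ, hρ⟩ := irr_isCharacter χ.1
        exact ⟨d, ρ.comp (P : Subgroup G).subtype, by funext y; rw [← hρ]; rfl⟩
      obtain ⟨m, hm⟩ := classInner_char_nat hres (isCharacter_one (G := (P : Subgroup G)))
      refine ⟨m, ?_⟩
      rw [classInner, inv_mul_eq_iff_eq_mul₀ (Nat.cast_ne_zero.2 Nat.card_pos.ne')] at hm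
      simpa using hm
    rw [← Finset.add_sum_erase _ _ (Finset.mem_univ (1 : (P : Subgroup G))),
      Finset.sum_congr rfl (fun (y : ↥(P : Subgroup G)) hy => show (χ.1 : G → ℂ) (y : G) = col M x χ from by
        refine congrFun (hconst (y : G) ?_) χ
        obtain ⟨k, hk'⟩ := P.2 y
        obtain ⟨i, -, hi⟩ := (Nat.dvd_prime_pow hp.out).1 (orderOf_dvd_of_pow_eq_one hk')
        rw [Subgroup.orderOf_coe, hi]
        refine dvd_pow_self p fun e => Finset.ne_of_mem_erase hy ?_
        rw [e, pow_zero, orderOf_eq_one_iff] at hi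
        exact hi),
      Finset.sum_const, Finset.card_erase_of_mem (Finset.mem_univ _), Finset.card_univ,
      ← Nat.card_eq_fintype_card, OneMemClass.coe_one, CharCorr.irr_one_eq_charDegree,
      nsmul_eq_mul] at hm
    have hP1 : ((Nat.card P - 1 : ℕ) : ℂ) ≠ 0 := Nat.cast_ne_zero.2 (by omega)
    have hrat : col M x χ = (((((Nat.card P * m : ℕ) : ℚ) - (charDegree (χ.1 : G → ℂ) : ℚ)) /
        ((Nat.card P - 1 : ℕ) : ℚ) : ℚ) : ℂ) := by
      push_cast
      rw [eq_div_iff hP1]
      linear_combination hm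
    have hi := isIntegral_of_isCharacter (irr_isCharacter χ.1) x
    rw [show (χ.1 : G → ℂ) x = col M x χ from rfl, hrat] at hi
    obtain ⟨z, hz⟩ := exists_int_of_isIntegral_rat hi
    have ha : col M x χ = (z : ℂ) := by rw [hrat, ← hz]; norm_num
    refine ⟨z, ha, ⟨(m : ℤ) - z, ?_⟩⟩
    rw [ha, Nat.cast_sub (by omega : 1 ≤ Nat.card P)] at hm
    apply Int.cast_injective (α := ℂ)
    push_cast at hm ⊢
    linear_combination hm
  choose a haval hadvd using hint
  -- the three members
  set o : {χ : IrrCharacter G // χ ∈ B₀} := ⟨principalIrr G, principal_mem hM⟩ with ho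
  have hcard : (Finset.univ : Finset {χ : IrrCharacter G // χ ∈ B₀}).card = 3 := by
    rw [Finset.card_univ, ← Nat.card_eq_fintype_card]
    exact hk
  obtain ⟨χ₁, χ₂, h12, huniv⟩ : ∃ χ₁ χ₂, χ₁ ≠ χ₂ ∧
      (Finset.univ : Finset {χ : IrrCharacter G // χ ∈ B₀}).erase o = {χ₁, χ₂} :=
    Finset.card_eq_two.1 (by rw [Finset.card_erase_of_mem (Finset.mem_univ o), hcard])
  have hsum : ∀ f : {χ : IrrCharacter G // χ ∈ B₀} → ℂ, ∑ χ, f χ = f o + (f χ₁ + f χ₂) := fun f => by
    rw [← Finset.add_sum_erase _ _ (Finset.mem_univ o), huniv, Finset.sum_pair h12]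
  have hpart1 : IsPPart p (1 : G) 1 := ⟨1, one_mul 1, Commute.one_left _,
    ⟨0, by rw [pow_zero, orderOf_one]⟩, by rw [orderOf_one]; exact hp.out.not_dvd_one⟩
  have hrel : (1 : ℤ) + a χ₁ * charDegree (χ₁.1 : G → ℂ) + a χ₂ * charDegree (χ₂.1 : G → ℂ) = 0 := by
    obtain ⟨z, hz⟩ := exists_isPPart hM.1 x
    have hz1 : z ≠ 1 := by
      rintro rfl
      obtain ⟨y, hy, -, -, hyp⟩ := hz
      rw [one_mul] at hy
      exact hyp (hy ▸ hxs)
    have h0 := sum_mul_inv_eq_zero hM hz hpart1 fun e => hz1 (isConj_one_left.1 e)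
    have h1 : ∀ χ : {χ : IrrCharacter G // χ ∈ B₀}, (χ.1 : G → ℂ) x * (χ.1 : G → ℂ) 1⁻¹ =
        (a χ : ℂ) * (charDegree (χ.1 : G → ℂ) : ℂ) := fun χ => by
      rw [inv_one, CharCorr.irr_one_eq_charDegree, ← haval χ]
      rfl
    rw [hsum, h1 χ₁, h1 χ₂, ho, principalIrr_apply, principalIrr_apply, one_mul] at h0
    apply Int.cast_injective (α := ℂ)
    push_cast
    linear_combination h0
  by_cases hp2 : p = 2
  · -- the rank would be one
    exfalso
    subst hp2
    set n := (Nat.card P : ℤ) with hn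
    have hn2 : (2 : ℤ) ∣ n := by
      rw [hn]; exact_mod_cast P.dvd_card_of_dvd_card hdvd
    have h1 : n ∣ 1 + a χ₁ * a χ₁ + a χ₂ * a χ₂ := by
      have : 1 + a χ₁ * a χ₁ + a χ₂ * a χ₂ = -(a χ₁ * ((charDegree (χ₁.1 : G → ℂ) : ℤ) - a χ₁) +
          a χ₂ * ((charDegree (χ₂.1 : G → ℂ) : ℤ) - a χ₂)) := by linear_combination hrel
      rw [this]
      exact (dvd_add (dvd_mul_of_dvd_right (hadvd χ₁) _) (dvd_mul_of_dvd_right (hadvd χ₂) _)).neg_right
    have hn4 : ¬ (4 : ℤ) ∣ n := fun h4 => by
      obtain ⟨k, hk'⟩ := h4.trans h1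
      rcases Int.even_or_odd' (a χ₁) with ⟨i, e | e⟩ <;>
        rcases Int.even_or_odd' (a χ₂) with ⟨j, e' | e'⟩ <;> rw [e, e'] at hk' <;> ring_nf at hk' <;>
        omega
    obtain ⟨k, hk'⟩ := P.2.exists_card_eq
    have hP : Nat.card P = 2 := by
      rcases (show k = 0 ∨ k = 1 ∨ 2 ≤ k by omega) with e | e | e
      · rw [e, pow_zero] at hk'; omega
      · rw [hk', e, pow_one]
      · exfalso
        refine hn4 ?_
        rw [hn]
        exact_mod_cast (show 4 ∣ Nat.card P from hk' ▸ pow_dvd_pow 2 e)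
    have hNC : Subgroup.normalizer ((P : Subgroup G) : Set G) ≤
        Subgroup.centralizer ((P : Subgroup G) : Set G) := by
      intro g hg
      refine Subgroup.mem_centralizer_iff.2 fun y hy => ?_
      haveI : Fintype (P : Subgroup G) := Fintype.ofFinite _
      have hmem := (Subgroup.mem_normalizer_iff.1 hg y).1 hy
      by_cases hy1 : y = 1
      · simp [hy1]
      have huniq : ∀ u v : (P : Subgroup G), u ≠ 1 → v ≠ 1 → u = v := fun u v hu hv => by
        by_contra huv
        have h3 : ({1, u, v} : Finset (P : Subgroup G)).card ≤ Fintype.card (P : Subgroup G) :=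
          Finset.card_le_univ _
        rw [Finset.card_insert_of_notMem (by simp [Ne.symm hu, Ne.symm hv]), Finset.card_pair huv,
          ← Nat.card_eq_fintype_card, hP] at h3
        omega
      have := congrArg Subtype.val (huniq ⟨_, hmem⟩ ⟨y, hy⟩
        (fun e => hy1 (conj_eq_one_iff.1 (congrArg Subtype.val e)))
        (fun e => hy1 (congrArg Subtype.val e)))
      exact (mul_inv_eq_iff_eq_mul.1 this).symm
    set N := (MonoidHom.transferSylow P hNC).ker
    have hN : ¬ 2 ∣ Nat.card N := MonoidHom.not_dvd_card_ker_transferSylow P hNC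
    have hcomp := MonoidHom.ker_transferSylow_isComplement' P hNC
    have := rank_of_complement (G := G) hM (N := N) hN fun g hg => by
      rw [← QuotientGroup.eq_one_iff, ← orderOf_eq_one_iff]
      have h1 := orderOf_map_dvd (QuotientGroup.mk' N) g
      have h2 : orderOf (QuotientGroup.mk' N g) ∣ 2 := by
        refine (orderOf_dvd_natCard _).trans ?_
        rw [← Subgroup.index_eq_card, hcomp.symm.index_eq_card, hP]
      exact ((Nat.dvd_prime Nat.prime_two).1 h2).resolve_right fun e => hg (e ▸ h1)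
    omega
  -- p odd
  set S := Finset.univ.filter (fun g : G => p ∣ orderOf g) with hS
  have hS0 : (S.card : ℂ) ≠ 0 := Nat.cast_ne_zero.2
    (Finset.card_ne_zero.2 ⟨x, Finset.mem_filter.2 ⟨Finset.mem_univ _, hxs⟩⟩)
  have hsplit : ∀ χ : IrrCharacter G, ∑ g, (χ : G → ℂ) g = ∑ g ∈ S, (χ : G → ℂ) g +
      ∑ g ∈ Finset.univ.filter (fun g : G => ¬ p ∣ orderOf g), (χ : G → ℂ) g := fun χ =>
    (Finset.sum_filter_add_sum_filter_not _ _ _).symm
  have htot : ∀ χ : IrrCharacter G, χ ≠ principalIrr G → ∑ g, (χ : G → ℂ) g = 0 := by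
    intro χ hχ
    have h1 := classInner_irr_ne χ.2 (principalIrr G).2 fun e => hχ (Subtype.ext e)
    rw [classInner, mul_eq_zero] at h1
    simpa using h1.resolve_left (inv_ne_zero (Nat.cast_ne_zero.2 Nat.card_pos.ne'))
  have hb : ∀ χ : IrrCharacter G, χ ∉ B₀ → ∑ g ∈ S, (χ : G → ℂ) g = 0 := by
    intro χ hχ
    have h1 := htot χ fun e => hχ (e ▸ principal_mem hM)
    have h2 : ∑ g ∈ Finset.univ.filter (fun g : G => ¬ p ∣ orderOf g), (χ : G → ℂ) g = 0 := by
      by_contra h3
      exact hχ (mem_of_regular_sum hM h3)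
    rw [hsplit, h2, add_zero] at h1
    exact h1
  have hFS := sum_indicator (G := G) hM hp2 hb
  have hval : ∀ χ : {χ : IrrCharacter G // χ ∈ B₀},
      ∑ g ∈ S, (χ.1 : G → ℂ) g = (S.card : ℂ) * a χ := fun χ => by
    rw [Finset.sum_congr rfl fun g hg => show (χ.1 : G → ℂ) g = col M x χ from
      congrFun (hconst g (Finset.mem_filter.1 hg).2) χ, Finset.sum_const, nsmul_eq_mul, haval χ]
  have hao : a o = 1 := by
    have h1 := haval o
    rw [ho, col_one hM] at h1
    exact_mod_cast h1.symm
  rw [← hS, hsum, hval, hval, hval, hao,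
    show fsInd (o.1 : G → ℂ) = 1 by
      rw [ho, fsInd_eq_sum]
      simp [inv_mul_cancel₀ (Nat.cast_ne_zero.mpr Fintype.card_ne_zero : (Fintype.card G : ℂ) ≠ 0)]]
    at hFS
  have hFS' : fsInd (χ₁.1 : G → ℂ) * (a χ₁ : ℂ) + fsInd (χ₂.1 : G → ℂ) * (a χ₂ : ℂ) = 0 := by
    refine mul_left_cancel₀ hS0 ?_
    push_cast at hFS
    linear_combination hFS
  -- `|P|` divides 3
  have hfinish : ∀ χ χ' : {χ : IrrCharacter G // χ ∈ B₀},
      (1 : ℤ) + a χ * charDegree (χ.1 : G → ℂ) + a χ' * charDegree (χ'.1 : G → ℂ) = 0 →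
      (a χ = a χ' ∨ a χ = -a χ') → Nat.card P = 3 := by
    intro χ χ' hr habs
    have h1 := arith hr (hadvd χ) (hadvd χ') habs
    have h2 : Nat.card P ∣ 3 := by exact_mod_cast h1
    exact ((Nat.dvd_prime Nat.prime_three).1 h2).resolve_left (by omega)
  have hzero : ∀ χ χ' : {χ : IrrCharacter G // χ ∈ B₀},
      (1 : ℤ) + a χ * charDegree (χ.1 : G → ℂ) + a χ' * charDegree (χ'.1 : G → ℂ) = 0 →
      a χ' = 0 → False := by
    intro χ χ' hr h0
    have hu : IsUnit (a χ) := IsUnit.of_mul_eq_one (-(charDegree (χ.1 : G → ℂ) : ℤ))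
      (by rw [h0] at hr; linear_combination -hr)
    have h1 : (Nat.card P : ℤ) ∣ 1 + a χ * a χ + a χ' * a χ' := by
      have : 1 + a χ * a χ + a χ' * a χ' = -(a χ * ((charDegree (χ.1 : G → ℂ) : ℤ) - a χ) +
          a χ' * ((charDegree (χ'.1 : G → ℂ) : ℤ) - a χ')) := by linear_combination hr
      rw [this]
      exact (dvd_add (dvd_mul_of_dvd_right (hadvd χ) _) (dvd_mul_of_dvd_right (hadvd χ') _)).neg_right
    have h2 : a χ * a χ = 1 := by
      rcases Int.isUnit_iff.1 hu with e | e <;> rw [e] <;> norm_num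
    rw [h2, h0, mul_zero, add_zero] at h1
    have h3 : Nat.card P ∣ 2 := by exact_mod_cast h1
    have h4 := (P.dvd_card_of_dvd_card hdvd).trans h3
    exact hp2 ((Nat.prime_dvd_prime_iff_eq hp.out Nat.prime_two).1 h4)
  rcases fsInd_cases χ₁.1.2 with ⟨-, e1⟩ | ⟨hr1, e1⟩ <;>
    rcases fsInd_cases χ₂.1.2 with ⟨-, e2⟩ | ⟨-, e2⟩
  · refine hfinish χ₁ χ₂ hrel ?_
    rcases e1 with e1 | e1 <;> rcases e2 with e2 | e2 <;> rw [e1, e2] at hFS'
    · exact Or.inr (Int.cast_injective (α := ℂ) (by push_cast; linear_combination hFS'))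
    · exact Or.inl (Int.cast_injective (α := ℂ) (by linear_combination hFS'))
    · exact Or.inl (Int.cast_injective (α := ℂ) (by linear_combination -hFS'))
    · exact Or.inr (Int.cast_injective (α := ℂ) (by push_cast; linear_combination -hFS'))
  · exfalso
    rw [e2, zero_mul, add_zero] at hFS'
    refine hzero χ₂ χ₁ (by linear_combination hrel) ?_
    rcases e1 with e1 | e1 <;> rw [e1] at hFS' <;> simpa using hFS'
  · exfalso
    rw [e1, zero_mul, zero_add] at hFS'
    refine hzero χ₁ χ₂ hrel ?_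
    rcases e2 with e2 | e2 <;> rw [e2] at hFS' <;> simpa using hFS'
  · -- two complex conjugate characters
    exfalso
    by_cases h1 : a χ₁ = 0
    · exact hzero χ₂ χ₁ (by linear_combination hrel) h1
    obtain ⟨φ, hφ⟩ : ∃ φ : IrrCharacter G, ∀ g, (φ : G → ℂ) g = conj ((χ₁.1 : G → ℂ) g) := by
      have hirr : IsIrrCharacter G (fun g => conj ((χ₁.1 : G → ℂ) g)) := CfsgLib.BrauerPerm.isIrrCharacter_conj χ₁.1.2
      exact ⟨⟨_, hirr⟩, fun _ => rfl⟩
    have hφne : φ ≠ principalIrr G := by
      intro e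
      refine hr1 fun g => ?_
      have := hφ g
      rw [e, principalIrr_apply] at this
      have h3 := congrArg conj this
      rw [map_one, Complex.conj_conj] at h3
      rw [← h3]
      simp
    have hφS : ∑ g ∈ S, (φ : G → ℂ) g = (S.card : ℂ) * a χ₁ := by
      rw [Finset.sum_congr rfl fun g _ => hφ g, ← map_sum, hval, map_mul, Complex.conj_natCast,
        map_intCast]
    have hφB : φ ∈ B₀ := by
      refine mem_of_regular_sum hM fun h2 => ?_
      have h3 := htot φ hφne
      rw [hsplit, h2, add_zero, hφS] at h3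
      exact h1 (by exact_mod_cast (mul_eq_zero.1 h3).resolve_left hS0)
    have hmem : (⟨φ, hφB⟩ : {χ : IrrCharacter G // χ ∈ B₀}) ∈
        (Finset.univ : Finset {χ : IrrCharacter G // χ ∈ B₀}).erase o :=
      Finset.mem_erase.2 ⟨fun e => hφne (congrArg Subtype.val e), Finset.mem_univ _⟩
    rw [huniv, Finset.mem_insert, Finset.mem_singleton] at hmem
    rcases hmem with e | e
    · refine hr1 fun g => ?_
      have := hφ g
      rw [show φ = χ₁.1 from congrArg Subtype.val e] at this
      exact Complex.conj_eq_iff_im.1 this.symm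
    · have he : χ₂.1 = φ := (congrArg Subtype.val e).symm
      have ha2 : a χ₂ = a χ₁ := by
        have h3 := haval χ₂
        rw [col, he, hφ] at h3
        have h4 := haval χ₁
        rw [col] at h4
        rw [h4, map_intCast] at h3
        exact_mod_cast h3.symm
      have hd2 : charDegree (χ₂.1 : G → ℂ) = charDegree (χ₁.1 : G → ℂ) := by
        simp only [charDegree, he, hφ, Complex.conj_re]
      rw [ha2, hd2] at hrel
      omega

end CfsgLib.ThreeChars
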